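import Mathlib.AlgebraicGeometry.AlgClosed.Basic
import Mathlib.AlgebraicGeometry.Group.Abelian
import Mathlib.AlgebraicGeometry.Morphisms.Etale
import Groth.Prelude.Def_Red
import Groth.Agent.S0353
import Groth.Agent.ChGrp.K982.Pts
import Groth.Agent.Sga3B.KerGrp
import Groth.Agent.S0346
import Groth.Agent.Localalg.CartierSch

/-!
# Points of schemes over an algebraically closed field; group schemes with few points
-/

set_option autoImplicit false
universe u v

open CategoryTheory CategoryTheory.Limits MonoidalCategory CartesianMonoidalCategory MonObj GrpObj AlgebraicGeometry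

namespace K982.APts

variable {k : Type u} [Field k]

/-- The base as a scheme over itself. -/
noncomputable abbrev P (k : Type u) [Field k] : Over (Spec (CommRingCat.of k)) := Over.mk (𝟙 (Spec (CommRingCat.of k)))

instance : Subsingleton ↥(P k).left := inferInstanceAs (Subsingleton ↥(Spec (CommRingCat.of k)))

instance : Nonempty ↥(P k).left := inferInstanceAs (Nonempty ↥(Spec (CommRingCat.of k)))

variable [IsAlgClosed k]

/-- Every nonempty closed subset of a scheme locally of finite type contains a rational point. -/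
theorem exists_point_mem {X : Over (Spec (CommRingCat.of k))} [LocallyOfFiniteType X.hom] (Z : Set X.left)
    (hZ : IsLocallyClosed Z) (hne : Z.Nonempty) : ∃ x : P k ⟶ X, ∀ s, x.left s ∈ Z := by
  have : JacobsonSpace X.left := LocallyOfFiniteType.jacobsonSpace X.hom
  obtain ⟨z, hz, hcl⟩ := nonempty_inter_closedPoints hne hZ
  refine ⟨Over.homMk (pointOfClosedPoint X.hom z hcl) (by simp), fun s => ?_⟩
  change pointOfClosedPoint X.hom z hcl s ∈ Z
  rwa [pointOfClosedPoint_apply]

theorem exists_section {X : Scheme.{u}} (f : X ⟶ Spec (CommRingCat.of k)) [LocallyOfFiniteType f] [Nonempty X] :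
    ∃ s : Spec (CommRingCat.of k) ⟶ X, s ≫ f = 𝟙 _ := by
  have : LocallyOfFiniteType (Over.mk f).hom := ‹_›
  have : Nonempty ↥(Over.mk f).left := ‹Nonempty X›
  obtain ⟨x, -⟩ := exists_point_mem (X := Over.mk f) Set.univ isClosed_univ.isLocallyClosed Set.univ_nonempty
  exact ⟨x.left, Over.w x⟩

/-- Points lift along surjective morphisms locally of finite type. -/
theorem exists_lift {X Y : Over (Spec (CommRingCat.of k))} (j : X ⟶ Y) [Surjective j.left]
    [LocallyOfFiniteType j.left] (y : P k ⟶ Y) : ∃ x : P k ⟶ X, x ≫ j = y := by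
  have h0 : Surjective (pullback.snd j.left y.left) := inferInstance
  have : Nonempty ↥(pullback j.left y.left) := by
    obtain ⟨z, -⟩ := (pullback.snd j.left y.left).surjective (IsLocalRing.closedPoint k)
    exact ⟨z⟩
  obtain ⟨s, hs⟩ := exists_section (pullback.snd j.left y.left)
  have h1 : (s ≫ pullback.fst j.left y.left) ≫ j.left = y.left := by
    rw [Category.assoc, pullback.condition, ← Category.assoc, hs]
    exact Category.id_comp _
  refine ⟨Over.homMk (s ≫ pullback.fst j.left y.left) ?_, ?_⟩
  · rw [← Over.w j, ← Category.assoc, h1]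
    exact Over.w y
  · ext1
    exact h1

/-- Morphisms agreeing on a dense set of rational points are equal. -/
theorem ext_of_dense {X Y : Over (Spec (CommRingCat.of k))} [IsReduced X.left] [LocallyOfFiniteType X.hom]
    [IsSeparated Y.hom] (f g : X ⟶ Y) (A : Set (P k ⟶ X))
    (hA : Dense (⋃ x ∈ A, Set.range x.left)) (h : ∀ x ∈ A, x ≫ f = x ≫ g) : f = g := by
  ext1
  refine ext_of_fromSpecResidueField_eq f.left g.left Y.hom _ hA ?_ ?_
  · intro z hz
    simp only [Set.mem_iUnion] at hz
    obtain ⟨x, hx, s, rfl⟩ := hz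
    have hxx : x.left ≫ X.hom = 𝟙 _ := Over.w x
    have hcl : IsClosed {x.left s} := by
      have := isClosedImmersion_of_comp_eq_id _ _ hxx
      have h2 := x.left.isClosedEmbedding.isClosed_range
      have h3 : Set.range x.left = {x.left s} := by
        ext z
        constructor
        · rintro ⟨t, rfl⟩
          rw [Subsingleton.elim t s]
          rfl
        · rintro rfl
          exact ⟨s, rfl⟩
      rwa [h3] at h2
    have h4 : pointOfClosedPoint X.hom (x.left s) hcl = x.left :=
      ext_of_apply_closedPoint_eq X.hom (pointOfClosedPoint_comp _ _ _) hxx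
        ((pointOfClosedPoint_apply _ _ _ _).trans (congrArg x.left (Subsingleton.elim _ _)))
    rw [← cancel_epi (Spec.map (residueFieldIsoBase X.hom (x.left s) hcl).hom)]
    have h5 := congrArg CommaMorphism.left (h x hx)
    change x.left ≫ f.left = x.left ≫ g.left at h5
    rw [← h4, pointOfClosedPoint, Category.assoc, Category.assoc] at h5
    exact h5
  · rw [Over.w, Over.w]

/-- Morphisms agreeing on rational points are equal. -/
theorem ext_of_points {X Y : Over (Spec (CommRingCat.of k))} [IsReduced X.left] [LocallyOfFiniteType X.hom]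
    [IsSeparated Y.hom] (f g : X ⟶ Y) (h : ∀ x : P k ⟶ X, x ≫ f = x ≫ g) : f = g := by
  refine ext_of_dense f g Set.univ ?_ fun x _ => h x
  rw [dense_iff_inter_open]
  intro U hU hne
  obtain ⟨x, hx⟩ := exists_point_mem U hU.isLocallyClosed hne
  refine ⟨x.left (Classical.arbitrary _), hx _, ?_⟩
  simp only [Set.mem_iUnion]
  exact ⟨x, Set.mem_univ _, _, rfl⟩

instance isSeparated_hom {k : Type u} [Field k] (G : Over (Spec (CommRingCat.of k))) [GrpObj G] :
    IsSeparated G.hom := by
  have h : IsClosedImmersion η[G].left := inferInstance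
  exact ((Groth.Agent.S0346.result _ G).1).2 h

section CharZero

variable [CharZero k]

theorem isReduced_of_grp (G : Over (Spec (CommRingCat.of k))) [GrpObj G] [LocallyOfFiniteType G.hom] :
    IsReduced G.left :=
  Groth.Agent.Localalg.CartierSch.isReduced_of_isAlgClosed G

/-- In characteristic zero a group scheme with a single rational point is trivial. -/
theorem eq_one_of_points {G : Over (Spec (CommRingCat.of k))} [GrpObj G] [LocallyOfFiniteType G.hom]
    (h : ∀ x : P k ⟶ G, x = 1) {X : Over (Spec (CommRingCat.of k))} (x : X ⟶ G) : x = 1 := by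
  have : IsReduced G.left := isReduced_of_grp G
  have h1 : 𝟙 G = 1 := ext_of_points _ _ fun x => by rw [Category.comp_id, MonObj.comp_one, h x]
  rw [← Category.comp_id x, h1, MonObj.comp_one]

/-- In characteristic zero a homomorphism is a monomorphism as soon as it is injective on rational points. -/
theorem mono_of_points {G H : Over (Spec (CommRingCat.of k))} [GrpObj G] [GrpObj H] [LocallyOfFiniteType G.hom]
    (f : G ⟶ H) [IsMonHom f] (h : ∀ x : P k ⟶ G, x ≫ f = 1 → x = 1) : Mono f := by
  obtain ⟨_, _⟩ := Groth.Agent.Sga3B.KerGrp.exists_grpObj f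
  have hm : Mono (Groth.Agent.Sga3B.KerGrp.kerι f) := inferInstance
  have hc : IsClosedImmersion (Groth.Agent.Sga3B.KerGrp.kerι f).left := inferInstance
  have hl : LocallyOfFiniteType (Groth.Agent.Sga3B.KerGrp.kerObj f).hom := by
    rw [← Over.w (Groth.Agent.Sga3B.KerGrp.kerι f)]
    infer_instance
  have h1 : ∀ x : P k ⟶ Groth.Agent.Sga3B.KerGrp.kerObj f, x = 1 := by
    intro x
    rw [← cancel_mono (Groth.Agent.Sga3B.KerGrp.kerι f), MonObj.one_comp]
    apply h
    rw [Category.assoc, Groth.Agent.Sga3B.KerGrp.kerι_comp, MonObj.comp_one]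
  constructor
  intro Z a b hab
  obtain ⟨t, ht⟩ := Groth.Agent.Sga3B.KerGrp.exists_lift f (a * b⁻¹) (by
    rw [MonObj.mul_comp, GrpObj.inv_comp, hab, mul_inv_cancel])
  rw [eq_one_of_points h1 t, MonObj.one_comp] at ht
  exact (mul_inv_eq_one.1 ht.symm)

end CharZero

end K982.APts
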