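import Groth.Agent.OneMot.K982.Chars
import Groth.Agent.OneMot.K982.Pts
import Groth.Agent.Sga3B.RG.BrTorus

/-!
# Points of split tori over an algebraically closed field of characteristic zero
-/

set_option autoImplicit false
universe u

open CategoryTheory CategoryTheory.Limits MonoidalCategory CartesianMonoidalCategory MonObj GrpObj AlgebraicGeometry
open Groth.Agent.Books.AffBridge Groth.Agent.Books.AffBridge2

namespace K982.Torus

open K982.APts

variable {k : Type u} [Field k]

section Diag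

variable {M : Type} [AddCommGroup M]

/-- The point of `Spec k[M]` given by a character. -/
noncomputable def ptOf (χ : Multiplicative M →* kˣ) : P k ⟶ SpecOver k (MonoidAlgebra k (Multiplicative M)) :=
  (unitIso k).hom ≫ specMap k (Chars.evl χ)

theorem ptOf_mul (χ χ' : Multiplicative M →* kˣ) : ptOf (χ * χ') = ptOf χ * ptOf χ' := by
  have h1 : ∀ χ : Multiplicative M →* kˣ, specMap k (Chars.evl χ) =
      Groth.Agent.Sga3B.RG.BrDiag.rptEquivRing k (MonoidAlgebra k (Multiplicative M)) k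
        (MonoidAlgebra.liftMulEquiv k k (Multiplicative M) ((Units.coeHom k).comp χ)) := fun χ => rfl
  have h2 : (Units.coeHom k).comp (χ * χ') = (Units.coeHom k).comp χ * (Units.coeHom k).comp χ' := by
    ext; simp
  rw [ptOf, ptOf, ptOf, ← MonObj.comp_mul, h1, h1, h1, h2, map_mul, map_mul]

theorem ptOf_bijective : Function.Bijective (ptOf (k := k) (M := M)) := by
  constructor
  · intro χ χ' h
    rw [ptOf, ptOf, cancel_epi] at h
    have h1 := congrArg (specPreimage k) h
    rw [specPreimage_specMap, specPreimage_specMap] at h1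
    have h2 := (MonoidAlgebra.lift k k (Multiplicative M)).injective h1
    ext g
    exact DFunLike.congr_fun h2 g
  · intro x
    let f := specPreimage k ((unitIso k).inv ≫ x)
    let χ : Multiplicative M →* kˣ := MonoidHom.toHomUnits ((f : _ →* k).comp (MonoidAlgebra.of k (Multiplicative M)))
    refine ⟨χ, ?_⟩
    have h1 : Chars.evl χ = f := by
      refine MonoidAlgebra.algHom_ext (fun g => ?_) (Subsingleton.elim _ _)
      rw [Chars.evl_single, _root_.one_mul]
      rfl
    rw [ptOf, h1, specMap_specPreimage, Iso.hom_inv_id_assoc]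

/-- Characters and points. -/
noncomputable def ptEquiv : (Multiplicative M →* kˣ) ≃* (P k ⟶ SpecOver k (MonoidAlgebra k (Multiplicative M))) :=
  MulEquiv.ofBijective (⟨ptOf, ptOf_mul⟩ : (Multiplicative M →* kˣ) →ₙ* _) ptOf_bijective

theorem ptEquiv_apply (χ : Multiplicative M →* kˣ) : ptEquiv χ = ptOf χ := rfl

/-- A function vanishing at the point of a character. -/
theorem ptOf_left (χ : Multiplicative M →* kˣ) :
    (ptOf χ).left = (unitIso k).hom.left ≫ Spec.map (CommRingCat.ofHom (Chars.evl χ).toRingHom) := rfl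

end Diag

/-- A torus over an algebraically closed field is `Spec k[ℤ^r]`. -/
theorem exists_iso [IsAlgClosed k] {T : Over (Spec (CommRingCat.of k))} [GrpObj T] (hT : Red.IsTorus T) :
    ∃ (r : ℕ) (e : T ≅ SpecOver k (MonoidAlgebra k (Multiplicative (Fin r → ℤ)))), IsMonHom e.hom := by
  obtain ⟨r, hr⟩ := Groth.Agent.Sga3B.TorusAlgClosed.exists_isSplitTorusWith hT
  obtain ⟨e, he⟩ := Groth.Agent.Sga3B.RG.BrDiag.isSplitTorusWith_iff.1 hr
  exact ⟨r, e, he⟩

/-- Factorisation of a spectrum through a closed subscheme. -/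
theorem exists_ideal_factor {A : CommRingCat.{u}} {E : Scheme.{u}} (c : E ⟶ Spec A) [IsClosedImmersion c] :
    ∃ I : Ideal A, ∀ (B : CommRingCat.{u}) (φ : A ⟶ B), (∀ a ∈ I, φ.hom a = 0) ↔ ∃ l : Spec B ⟶ E, l ≫ c = Spec.map φ := by
  obtain ⟨I, e, he⟩ := IsClosedImmersion.Spec_iff.1 (inferInstance : IsClosedImmersion c)
  refine ⟨I, fun B φ => ⟨fun h => ?_, ?_⟩⟩
  · let ψ : A ⧸ I →+* B := Ideal.Quotient.lift I φ.hom h
    refine ⟨Spec.map (CommRingCat.ofHom ψ) ≫ e.inv, ?_⟩
    rw [he, Category.assoc, Iso.inv_hom_id_assoc, ← Spec.map_comp]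
    rfl
  · rintro ⟨l, hl⟩ a ha
    obtain ⟨ψ, hψ⟩ := Spec.map_surjective (l ≫ e.hom)
    rw [he, ← Category.assoc, ← hψ, ← Spec.map_comp] at hl
    have h3 := Spec.map_injective hl
    rw [← h3]
    change ψ.hom (Ideal.Quotient.mk I a) = 0
    rw [Ideal.Quotient.eq_zero_iff_mem.2 ha, map_zero]

/-- The equaliser of two morphisms on `Spec A` with separated target is cut out by an ideal. -/
theorem exists_ideal {A : Type u} [CommRing A] [Algebra k A] {H : Over (Spec (CommRingCat.of k))}
    [IsSeparated H.hom] (f g : SpecOver k A ⟶ H) :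
    ∃ I : Ideal A, ∀ (B : Type u) [CommRing B] [Algebra k B] (φ : A →ₐ[k] B),
      (∀ a ∈ I, φ a = 0) ↔ specMap k φ ≫ f = specMap k φ ≫ g := by
  have hc : IsClosedImmersion (equalizer.ι f g).left := inferInstance
  obtain ⟨I, hI⟩ := @exists_ideal_factor (CommRingCat.of A) _ (equalizer.ι f g).left hc
  refine ⟨I, fun B _ _ φ => (hI (CommRingCat.of B) (CommRingCat.ofHom φ.toRingHom)).trans ⟨?_, fun h => ?_⟩⟩
  · rintro ⟨l, hl⟩
    let l' : SpecOver k B ⟶ equalizer f g := Over.homMk l (by
      rw [← Over.w (equalizer.ι f g), ← Category.assoc]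
      exact (congrArg (· ≫ (SpecOver k A).hom) hl).trans (Over.w (specMap k φ)))
    have h2 : specMap k φ = l' ≫ equalizer.ι f g := by
      ext1
      exact hl.symm
    rw [h2, Category.assoc, equalizer.condition, Category.assoc]
  · exact ⟨(equalizer.lift (specMap k φ) h).left, congrArg CommaMorphism.left (equalizer.lift_ι (specMap k φ) h)⟩

section Split

variable {r : ℕ} {T : Over (Spec (CommRingCat.of k))} [GrpObj T]
  (e : T ≅ SpecOver k (MonoidAlgebra k (Multiplicative (Fin r → ℤ)))) [IsMonHom e.hom]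

/-- points of a split torus -/
noncomputable def tEquiv : (Multiplicative (Fin r → ℤ) →* kˣ) ≃* (P k ⟶ T) :=
  ptEquiv.trans
    { toFun := fun x => x ≫ e.inv
      invFun := fun x => x ≫ e.hom
      left_inv := fun x => by simp
      right_inv := fun x => by simp
      map_mul' := fun x y => by
        rw [← cancel_mono e.hom, MonObj.mul_comp] }

include e in
/-- Points of a split torus are divisible. -/
theorem exists_pow_split [IsAlgClosed k] (n : ℕ) (hn : 1 ≤ n) (x : P k ⟶ T) : ∃ y : P k ⟶ T, y ^ n = x := by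
  obtain ⟨χ, rfl⟩ := (tEquiv e).surjective x
  have h1 : ∀ i : Fin r, ∃ a : kˣ, a ^ n = χ (Multiplicative.ofAdd (Pi.single i 1)) := by
    intro i
    obtain ⟨a, ha⟩ := IsAlgClosed.exists_pow_nat_eq (χ (Multiplicative.ofAdd (Pi.single i 1)) : k) hn
    have ha0 : a ≠ 0 := by
      rintro rfl
      rw [zero_pow (by omega)] at ha
      exact (Units.ne_zero _) ha.symm
    exact ⟨Units.mk0 a ha0, Units.ext ha⟩
  choose a ha using h1
  let χ' : Multiplicative (Fin r → ℤ) →* kˣ :=
    { toFun := fun g => ∏ i, a i ^ (g.toAdd i)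
      map_one' := by simp
      map_mul' := fun g g' => by
        rw [← Finset.prod_mul_distrib]
        refine Finset.prod_congr rfl fun i _ => ?_
        rw [toAdd_mul, Pi.add_apply, zpow_add] }
  refine ⟨tEquiv e χ', ?_⟩
  rw [← map_pow]
  congr 1
  have h2 : ∀ g : Fin r → ℤ, Multiplicative.ofAdd g =
      ∏ i, (Multiplicative.ofAdd (Pi.single i (1 : ℤ) : Fin r → ℤ)) ^ (g i) := by
    intro g
    apply Multiplicative.toAdd.injective
    rw [toAdd_prod]
    ext j
    simp [Finset.sum_apply, Pi.single_apply]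
  refine MonoidHom.ext fun g => ?_
  rw [MonoidHom.pow_apply]
  change ((∏ i, a i ^ (g.toAdd i)) ^ n : kˣ) = χ g
  rw [← Finset.prod_pow]
  conv_rhs => rw [show g = Multiplicative.ofAdd g.toAdd from rfl, h2, map_prod]
  refine Finset.prod_congr rfl fun i _ => ?_
  rw [map_zpow, ← ha i, ← zpow_natCast, ← zpow_natCast, ← zpow_mul, ← zpow_mul, mul_comm]

theorem comp_tEquiv {H : Over (Spec (CommRingCat.of k))} (f : T ⟶ H) (χ : Multiplicative (Fin r → ℤ) →* kˣ) :
    tEquiv e χ ≫ f = (unitIso k).hom ≫ specMap k (Chars.evl χ) ≫ e.inv ≫ f := by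
  change (ptOf χ ≫ e.inv) ≫ f = _
  rw [ptOf, Category.assoc, Category.assoc]

include e in
/-- Two morphisms from a split torus agreeing on torsion points are equal. -/
theorem ext_of_torsion_split [IsAlgClosed k] [CharZero k] {H : Over (Spec (CommRingCat.of k))} [IsSeparated H.hom]
    (f g : T ⟶ H) (h : ∀ (n : ℕ), 1 ≤ n → ∀ x : P k ⟶ T, x ^ n = 1 → x ≫ f = x ≫ g) : f = g := by
  obtain ⟨I, hI⟩ := exists_ideal (e.inv ≫ f) (e.inv ≫ g)
  have h1 : I = ⊥ := by
    rw [eq_bot_iff]
    intro a ha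
    refine Chars.eq_zero_of_ann_eq_bot (Chars.tors k _) (Chars.ann_tors_free r) a fun χ hχ => ?_
    refine (hI k (Chars.evl χ)).2 ?_ a ha
    obtain ⟨n, hn, h0⟩ := hχ
    have h2 := h n hn (tEquiv e χ) (by
      rw [← map_pow]
      have : χ ^ n = 1 := by
        refine MonoidHom.ext fun g => ?_
        rw [MonoidHom.pow_apply, h0 g]
        rfl
      rw [this, map_one])
    rw [comp_tEquiv, comp_tEquiv, cancel_epi] at h2
    exact h2
  have h2 := (hI _ (AlgHom.id k _)).1 (fun a ha => by
    rw [h1] at ha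
    rw [(Ideal.mem_bot.1 ha)]
    simp)
  rw [specMap_id, Category.id_comp, Category.id_comp, cancel_epi] at h2
  exact h2

include e in
/-- A homomorphism from a split torus whose kernel has no torsion point is injective on points. -/
theorem eq_one_of_torsion_split [IsAlgClosed k] [CharZero k] {H : Over (Spec (CommRingCat.of k))} [GrpObj H]
    [IsSeparated H.hom]
    (f : T ⟶ H) [IsMonHom f] (h : ∀ (n : ℕ), 1 ≤ n → ∀ x : P k ⟶ T, x ^ n = 1 → x ≫ f = 1 → x = 1)
    (x : P k ⟶ T) (hx : x ≫ f = 1) : x = 1 := by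
  obtain ⟨I, hI⟩ := exists_ideal (e.inv ≫ f) (e.inv ≫ (1 : T ⟶ H))
  let Γ : Subgroup (Multiplicative (Fin r → ℤ) →* kˣ) :=
    { carrier := {χ | tEquiv e χ ≫ f = 1}
      mul_mem' := fun {a b} (ha : _ = _) (hb : _ = _) => by
        change tEquiv e (a * b) ≫ f = 1
        rw [map_mul, MonObj.mul_comp, ha, hb, _root_.mul_one]
      one_mem' := by
        change tEquiv e 1 ≫ f = 1
        rw [map_one, MonObj.one_comp]
      inv_mem' := fun {a} (ha : _ = _) => by
        change tEquiv e a⁻¹ ≫ f = 1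
        have h1 : tEquiv e a⁻¹ = (tEquiv e a)⁻¹ := map_inv (tEquiv e) a
        rw [h1, GrpObj.inv_comp, ha, inv_one] }
  have hΓ : ∀ χ, χ ∈ Γ ↔ ∀ a ∈ I, Chars.evl χ a = 0 := by
    intro χ
    rw [hI k (Chars.evl χ)]
    change tEquiv e χ ≫ f = 1 ↔ _
    have h1 : tEquiv e χ ≫ (1 : T ⟶ H) = 1 := MonObj.comp_one _
    rw [← h1, comp_tEquiv, comp_tEquiv, cancel_epi]
  have hann : Chars.ann Γ = ⊤ := by
    by_contra hne
    obtain ⟨χ, ⟨n, hn, h0⟩, h1, g, hg⟩ := Chars.exists_of_ne_top (k := k) (Chars.ann Γ) hne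
    have h2 : χ ∈ Γ := (hΓ χ).2 fun a ha => Chars.evl_eq_zero Γ a (fun χ' hχ' => (hΓ χ').1 hχ' a ha) χ h1
    have h3 := h n hn (tEquiv e χ) (by
      rw [← map_pow]
      have : χ ^ n = 1 := by
        refine MonoidHom.ext fun g => ?_
        rw [MonoidHom.pow_apply, h0 g]
        rfl
      rw [this, map_one]) h2
    rw [← map_one (tEquiv e), (tEquiv e).injective.eq_iff] at h3
    rw [h3] at hg
    exact hg rfl
  obtain ⟨χ, rfl⟩ := (tEquiv e).surjective x
  have h4 : χ = 1 := by
    refine MonoidHom.ext fun g => ?_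
    have : g ∈ Chars.ann Γ := hann ▸ Subgroup.mem_top g
    rw [this χ hx]
    rfl
  rw [h4, map_one]

end Split

variable [IsAlgClosed k] {T : Over (Spec (CommRingCat.of k))} [GrpObj T]

/-- Points of a torus are divisible. -/
theorem exists_pow (hT : Red.IsTorus T) (n : ℕ) (hn : 1 ≤ n) (x : P k ⟶ T) : ∃ y : P k ⟶ T, y ^ n = x := by
  obtain ⟨r, e, he⟩ := exists_iso hT
  exact exists_pow_split e n hn x

/-- Two morphisms from a torus to a separated scheme agreeing on torsion points are equal. -/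
theorem ext_of_torsion (hT : Red.IsTorus T) [CharZero k] {H : Over (Spec (CommRingCat.of k))} [IsSeparated H.hom]
    (f g : T ⟶ H) (h : ∀ (n : ℕ), 1 ≤ n → ∀ x : P k ⟶ T, x ^ n = 1 → x ≫ f = x ≫ g) : f = g := by
  obtain ⟨r, e, he⟩ := exists_iso hT
  exact ext_of_torsion_split e f g h

/-- A homomorphism from a torus whose kernel has no torsion point is injective on points. -/
theorem eq_one_of_torsion (hT : Red.IsTorus T) [CharZero k] {H : Over (Spec (CommRingCat.of k))} [GrpObj H]
    [IsSeparated H.hom]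
    (f : T ⟶ H) [IsMonHom f] (h : ∀ (n : ℕ), 1 ≤ n → ∀ x : P k ⟶ T, x ^ n = 1 → x ≫ f = 1 → x = 1)
    (x : P k ⟶ T) (hx : x ≫ f = 1) : x = 1 := by
  obtain ⟨r, e, he⟩ := exists_iso hT
  exact eq_one_of_torsion_split e f h x hx

end K982.Torus
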