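import Groth.Agent.OneMot.K982.Semi
import Groth.Agent.OneMot.K982.Torus
import Groth.Agent.AbVar.K510.AVPts
import Groth.Agent.AbVar.K510.TorsGen
import Groth.Agent.Grpsch.KerMul
import Groth.Agent.S3036
import Groth.Agent.Etbase.FpqcDescent

/-!
# Torsion points of semi-abelian schemes over an algebraically closed field of characteristic zero
-/

set_option autoImplicit false
universe u

open CategoryTheory CategoryTheory.Limits MonoidalCategory CartesianMonoidalCategory MonObj GrpObj AlgebraicGeometry

namespace K982.Ab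

open K982.APts

variable {k : Type u} [Field k] [IsAlgClosed k]

section Proper

open Groth.Agent.Books.AlgPts

/-- In characteristic zero a proper commutative group scheme without torsion points has a single point. -/
theorem eq_one_of_proper [CharZero k] (H : Over (Spec (CommRingCat.of k))) [GrpObj H] [IsCommMonObj H]
    [IsProper H.hom] (h : ∀ (n : ℕ), 1 ≤ n → ∀ x : P k ⟶ H, x ^ n = 1 → x = 1) (x : P k ⟶ H) : x = 1 := by
  classical
  have hHc : CompactSpace H.left := QuasiCompact.compactSpace_of_compactSpace H.hom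
  obtain ⟨U, gU, u, hum, huc, hUs, hUc, hur⟩ := Groth.Agent.Sga3B.RedIdComp.exists_redIdComp H
  have humono : Mono u := Groth.Agent.Books.AlgPtsGrp.mono_of_isClosedImmersion _
  have hUcomm : IsCommMonObj U := K510.TorsGen.isCommMonObj_of_mono u
  have hUp : IsProper U.hom := by
    rw [← Over.w u]; infer_instance
  have hUgi : GeometricallyIntegral U.hom := K510.TorsGen.geometricallyIntegral_of_smooth_connected U
  have hUi : IsIntegral U.left := GeometricallyIntegral.isIntegral_of_subsingleton U.hom
  obtain ⟨g, hg⟩ := K510.TorsGen.exists_dim U.hom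
  have h2 : ((2 : ℕ) : k) ≠ 0 := Nat.cast_ne_zero.2 two_ne_zero
  have hcard := Groth.Agent.Etcore.AbTors.card_torsion U g hg 2 h2
  have h1 : Nat.card {x : P k ⟶ U // x ^ 2 = 1} = 1 := by
    rw [Nat.card_eq_one_iff_unique]
    refine ⟨⟨fun a b => Subtype.ext ?_⟩, ⟨⟨1, one_pow 2⟩⟩⟩
    have key : ∀ a : P k ⟶ U, a ^ 2 = 1 → a = 1 := by
      intro a ha
      rw [← cancel_mono u, MonObj.one_comp]
      refine h 2 one_le_two _ ?_
      rw [← MonObj.pow_comp, ha, MonObj.one_comp]
    rw [key a.1 a.2, key b.1 b.2]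
  have hg0 : g = 0 := by
    rw [hcard] at h1
    have := Nat.pow_eq_one.1 h1
    omega
  have hdim0 : topologicalKrullDim (𝟙_ (Over (Spec (CommRingCat.of k)))).left = 0 := by
    change topologicalKrullDim (PrimeSpectrum k) = 0
    rw [PrimeSpectrum.topologicalKrullDim_eq_ringKrullDim]
    exact ringKrullDim_eq_zero_of_field k
  have hred1 : IsReduced (𝟙_ (Over (Spec (CommRingCat.of k)))).left :=
    inferInstanceAs (IsReduced (Spec (CommRingCat.of k)))
  have huniv : Set.range (η[U] : 𝟙_ (Over (Spec (CommRingCat.of k))) ⟶ U).left = Set.univ := by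
    have : IsClosedImmersion (η[U] : 𝟙_ (Over (Spec (CommRingCat.of k))) ⟶ U).left := inferInstance
    refine K510.TorsGen.range_eq_univ _ 0 hdim0 ?_
    rw [hg, hg0]
  have hUone : ∀ z : P k ⟶ U, z = 1 := by
    intro z
    ext1
    refine ext_of_apply_closedPoint_eq U.hom (Over.w z) (Over.w (1 : P k ⟶ U)) ?_
    have hs : ∀ a : U.left, a = (η[U] : 𝟙_ (Over (Spec (CommRingCat.of k))) ⟶ U).left (IsLocalRing.closedPoint k) := by
      intro a
      have ha : a ∈ Set.range (η[U] : 𝟙_ (Over (Spec (CommRingCat.of k))) ⟶ U).left := by rw [huniv]; trivial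
      obtain ⟨b, rfl⟩ := ha
      rw [Subsingleton.elim (α := ↥(Spec (CommRingCat.of k))) b (IsLocalRing.closedPoint k)]
    rw [hs (z.left _), hs ((1 : P k ⟶ U).left _)]
  have h2' : IsLocallyNoetherian H.left := LocallyOfFiniteType.isLocallyNoetherian H.hom
  have h2'' : IsNoetherian H.left := { }
  have h3 : TopologicalSpace.NoetherianSpace H.left := inferInstance
  have h4 : Finite (irreducibleComponents H.left) := TopologicalSpace.NoetherianSpace.finite_irreducibleComponents
  have hfin : Finite (𝟙_ (Over (Spec (CommRingCat.of k))) ⟶ H) := by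
    refine Finite.of_injective (fun x : 𝟙_ (Over (Spec (CommRingCat.of k))) ⟶ H =>
      (⟨irreducibleComponent (pt x), irreducibleComponent_mem_irreducibleComponents _⟩ :
        irreducibleComponents H.left)) fun x y hxy => ?_
    have h6 := K510.TorsGen.mul_inv_mem_connectedComponent H x y (congrArg Subtype.val hxy)
    rw [← hur] at h6
    obtain ⟨z, hz⟩ := Groth.Agent.Books.AlgPtsGrp.exists_lift u (x⁻¹ * y) (by
      rintro _ ⟨z, rfl⟩
      have : z = IsLocalRing.closedPoint k := Subsingleton.elim (α := PrimeSpectrum k) _ _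
      rw [this]
      exact h6)
    have hz1 : z = 1 := hUone z
    rw [hz1, MonObj.one_comp] at hz
    exact (inv_mul_eq_one.1 hz.symm)
  have hx : x ^ Nat.card (𝟙_ (Over (Spec (CommRingCat.of k))) ⟶ H) = 1 := pow_card_eq_one'
  exact h _ Nat.card_pos x hx

end Proper

section Semi

variable {T G A : Over (Spec (CommRingCat.of k))} [GrpObj T] [IsCommMonObj T] [GrpObj G] [IsCommMonObj G]
  [GrpObj A] [IsCommMonObj A] {incl : T ⟶ G} {proj : G ⟶ A} [IsMonHom incl] [IsMonHom proj]
  (h : OneMot.IsSemiAbWith T G A incl proj)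

include h

theorem smooth_proj : Smooth proj.left := by
  have : Smooth T.hom := Groth.Agent.Sga3B.TorusAlgClosed.smooth_of_isTorus h.torus
  exact K982.Semi.property_proj h.shortExact @Smooth this

theorem isAffineHom_proj : IsAffineHom proj.left := by
  have h1 : IsAffineHom T.hom := Groth.Agent.Sga3B.TorusAlgClosed.isAffineHom_of_isTorus h.torus
  exact K982.Semi.property_proj h.shortExact @IsAffineHom h1

theorem surjective_proj : Surjective proj.left := K982.Semi.surjective_proj h.shortExact

theorem locallyOfFiniteType : LocallyOfFiniteType G.hom := by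
  have := smooth_proj h
  have := h.abelian.smooth
  rw [← Over.w proj]
  infer_instance

theorem quasiCompact : QuasiCompact G.hom := by
  have := isAffineHom_proj h
  have := h.abelian.proper
  rw [← Over.w proj]
  infer_instance

theorem isReduced : IsReduced G.left := by
  have h1 := smooth_proj h
  have h2 := h.abelian.smooth
  have h3 : Smooth G.hom := by
    rw [← Over.w proj]
    infer_instance
  exact Groth.Agent.Flat2B.SmoothGeom.isReduced_of_smooth G.hom

theorem isPullback_incl : IsPullback incl (toUnit T) proj η[A] := by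
  refine K982.Pts.isPullback_of_points ?_ ?_ ?_
  · rw [h.comp]
    rfl
  · intro X x y hxy
    obtain ⟨t, ht⟩ := K982.Semi.exists_of_proj_eq_one h.shortExact x (by
      rw [hxy, toUnit_unique y (toUnit X)]
      rfl)
    exact ⟨t, ht, toUnit_unique _ _⟩
  · intro X p p' e1 _
    exact K982.Semi.incl_inj h.shortExact e1

theorem exists_lift_proj (y : P k ⟶ A) : ∃ x : P k ⟶ G, x ≫ proj = y := by
  have := surjective_proj h
  have := smooth_proj h
  exact exists_lift proj y

theorem connectedSpace : ConnectedSpace A.left := by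
  have h1 := h.abelian.connectedFibres (IsLocalRing.closedPoint k)
  have h2 : Function.Surjective (A.hom.fiberι (IsLocalRing.closedPoint k)) := by
    rw [← Set.range_eq_univ, Scheme.Hom.range_fiberι]
    ext z
    simp only [Set.mem_preimage, Set.mem_singleton_iff, Set.mem_univ, iff_true]
    exact Subsingleton.elim (α := ↥(Spec (CommRingCat.of k))) _ _
  exact h2.connectedSpace (A.hom.fiberι (IsLocalRing.closedPoint k)).continuous

theorem geometricallyIntegral : GeometricallyIntegral A.hom := by
  have := h.abelian.smooth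
  have := connectedSpace h
  exact K510.TorsGen.geometricallyIntegral_of_smooth_connected A

/-- The points of a semi-abelian variety form a divisible group. -/
theorem exists_pow (n : ℕ) (hn : 1 ≤ n) (x : P k ⟶ G) : ∃ y : P k ⟶ G, y ^ n = x := by
  have := h.abelian.proper
  have := geometricallyIntegral h
  obtain ⟨b, hb⟩ := K510.AVPts.exists_pow_eq A n hn (x ≫ proj)
  obtain ⟨c, hc⟩ := exists_lift_proj h b
  obtain ⟨t, ht⟩ := K982.Semi.exists_of_proj_eq_one h.shortExact (x * (c ^ n)⁻¹) (by
    rw [MonObj.mul_comp, GrpObj.inv_comp, MonObj.pow_comp, hc, hb, mul_inv_cancel])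
  obtain ⟨s, rfl⟩ := K982.Torus.exists_pow h.torus n hn t
  refine ⟨(s ≫ incl) * c, ?_⟩
  rw [mul_pow, ← MonObj.pow_comp, ht, inv_mul_cancel_right]

/-- Torsion points of the abelian quotient lift to torsion points. -/
theorem exists_torsion_lift (n : ℕ) (hn : 1 ≤ n) (a : P k ⟶ A) (ha : a ^ n = 1) :
    ∃ g : P k ⟶ G, g ^ n = 1 ∧ g ≫ proj = a := by
  obtain ⟨c, hc⟩ := exists_lift_proj h a
  obtain ⟨t, ht⟩ := K982.Semi.exists_of_proj_eq_one h.shortExact (c ^ n) (by
    rw [MonObj.pow_comp, hc, ha])
  obtain ⟨s, rfl⟩ := K982.Torus.exists_pow h.torus n hn t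
  refine ⟨(s ≫ incl)⁻¹ * c, ?_, ?_⟩
  · rw [mul_pow, inv_pow, ← MonObj.pow_comp, ht, inv_mul_cancel]
  · rw [MonObj.mul_comp, GrpObj.inv_comp, Category.assoc, h.comp, MonObj.comp_one, hc, inv_one, _root_.one_mul]

/-- A homomorphism from a semi-abelian variety killing all torsion points is trivial. -/
theorem eq_one_of_torsion [CharZero k] {H : Over (Spec (CommRingCat.of k))} [GrpObj H] (f : G ⟶ H) [IsMonHom f]
    (hf : ∀ (n : ℕ), 1 ≤ n → ∀ x : P k ⟶ G, x ^ n = 1 → x ≫ f = 1) : f = 1 := by
  have i1 := h.abelian.proper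
  have i2 := geometricallyIntegral h
  have i3 := smooth_proj h
  have i4 := surjective_proj h
  have h1 : incl ≫ f = 1 := by
    refine K982.Torus.ext_of_torsion h.torus _ _ fun n hn x hx => ?_
    rw [MonObj.comp_one, ← Category.assoc]
    refine hf n hn _ ?_
    rw [← MonObj.pow_comp, hx, MonObj.one_comp]
  obtain ⟨f', hf', rfl⟩ := K510.KerLemmas.exists_desc_hom incl proj (isPullback_incl h) f h1
  have h2 : f' = 1 := by
    refine K510.TorsGen.eq_one_of_torsion A 2 (Nat.cast_ne_zero.2 two_ne_zero) le_rfl H f' fun n x hx => ?_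
    obtain ⟨g, hg, hg'⟩ := exists_torsion_lift h (2 ^ n) Nat.one_le_two_pow x hx
    have := hf _ Nat.one_le_two_pow g hg
    rw [← Category.assoc] at this
    rw [← hg']
    exact this
  rw [h2, MonObj.comp_one]

/-- Homomorphisms from a semi-abelian variety agreeing on all torsion points are equal. -/
theorem ext_of_torsion [CharZero k] {H : Over (Spec (CommRingCat.of k))} [GrpObj H] [IsCommMonObj H]
    (f g : G ⟶ H) [IsMonHom f] [IsMonHom g]
    (hf : ∀ (n : ℕ), 1 ≤ n → ∀ x : P k ⟶ G, x ^ n = 1 → x ≫ f = x ≫ g) : f = g := by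
  have h1 : IsMonHom (f * g⁻¹) := by
    rw [Groth.Agent.Grpsch.KerMul.isMonHom_iff]
    refine ⟨fun a b => ?_, ?_⟩
    · rw [MonObj.comp_mul, MonObj.comp_mul, MonObj.comp_mul, GrpObj.comp_inv, GrpObj.comp_inv, GrpObj.comp_inv,
        MonObj.mul_comp, MonObj.mul_comp, _root_.mul_inv, _root_.mul_mul_mul_comm]
    · rw [MonObj.comp_mul, GrpObj.comp_inv, IsMonHom.one_hom, IsMonHom.one_hom, mul_inv_cancel,
        MonObj.one_eq_one]
  have h2 : f * g⁻¹ = 1 := eq_one_of_torsion h _ fun n hn x hx => by
    rw [MonObj.comp_mul, GrpObj.comp_inv, hf n hn x hx, mul_inv_cancel]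
  exact mul_inv_eq_one.1 h2

/-- A homomorphism from a semi-abelian variety which is injective on torsion points is a monomorphism. -/
theorem mono_of_torsion [CharZero k] {H : Over (Spec (CommRingCat.of k))} [GrpObj H] (f : G ⟶ H) [IsMonHom f]
    (hf : ∀ (n : ℕ), 1 ≤ n → ∀ x : P k ⟶ G, x ^ n = 1 → x ≫ f = 1 → x = 1) : Mono f := by
  have i1 := h.abelian.proper
  have i2 := locallyOfFiniteType h
  have i2' := quasiCompact h
  have i3 : LocallyOfFiniteType A.hom := inferInstance
  refine mono_of_points f fun x hx => ?_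
  obtain ⟨K, gK, κ, hκ, hκc, hpb⟩ := K510.KerLemmas.exists_closedKernel f
  have hm : Mono κ := Groth.Agent.Books.AlgPtsGrp.mono_of_isClosedImmersion _
  have hKc : IsCommMonObj K := K510.TorsGen.isCommMonObj_of_mono κ
  have hKl : LocallyOfFiniteType K.hom := by
    rw [← Over.w κ]; infer_instance
  have hKq : QuasiCompact K.hom := by
    rw [← Over.w κ]; infer_instance
  -- points of the kernel
  have hker : ∀ y : P k ⟶ K, (y ≫ κ) ≫ f = 1 := fun y => K510.KerLemmas.ker_comp hpb y
  have htors : ∀ (n : ℕ), 1 ≤ n → ∀ y : P k ⟶ K, y ^ n = 1 → y = 1 := by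
    intro n hn y hy
    rw [← cancel_mono κ, MonObj.one_comp]
    refine hf n hn _ ?_ (hker y)
    rw [← MonObj.pow_comp, hy, MonObj.one_comp]
  have hmono : Mono (κ ≫ proj) := by
    refine mono_of_points (κ ≫ proj) fun y hy => ?_
    rw [← Category.assoc] at hy
    obtain ⟨t, ht⟩ := K982.Semi.exists_of_proj_eq_one h.shortExact _ hy
    have h1 : t = 1 := by
      refine K982.Torus.eq_one_of_torsion h.torus (incl ≫ f) (fun n hn z hz hz' => ?_) t ?_
      · rw [← Category.assoc] at hz'
        have h2 := hf n hn (z ≫ incl) (by rw [← MonObj.pow_comp, hz, MonObj.one_comp]) hz'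
        exact K982.Semi.incl_inj h.shortExact (h2.trans (MonObj.one_comp incl).symm)
      · rw [← Category.assoc, ht]
        exact hker y
    rw [← cancel_mono κ, MonObj.one_comp, ← ht, h1, MonObj.one_comp]
  have hqc : QuasiCompact (κ ≫ proj).left := by
    have := isAffineHom_proj h
    rw [Over.comp_left]
    infer_instance
  have hcl : IsClosedImmersion (κ ≫ proj).left := Groth.Agent.S3036.result k K A (κ ≫ proj)
  have hKp : IsProper K.hom := by
    rw [← Over.w (κ ≫ proj)]
    infer_instance
  have hx' : x ≫ f = toUnit _ ≫ η[H] := hx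
  obtain ⟨y, hy⟩ := K510.KerLemmas.exists_lift_ker hpb x hx
  rw [← hy, eq_one_of_proper K htors y, MonObj.one_comp]

end Semi

end K982.Ab
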