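import Mathlib.LinearAlgebra.LinearIndependent.Basic
import Mathlib.Algebra.MonoidAlgebra.Basic
import Mathlib.Algebra.MonoidAlgebra.MapDomain
import Mathlib.GroupTheory.FiniteAbelian.Duality
import Mathlib.GroupTheory.SpecificGroups.Cyclic
import Mathlib.GroupTheory.QuotientGroup.Basic
import Mathlib.RingTheory.RootsOfUnity.AlgebraicallyClosed
import Mathlib.GroupTheory.Finiteness
import Mathlib.LinearAlgebra.FreeModule.IdealQuotient

/-!
# Characters of finitely generated commutative groups and regular functions on diagonalisable groups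
-/

set_option autoImplicit false

namespace K982.Chars

variable {k : Type*} [Field k]

/-- An element of a group algebra killed by a separating monoid of characters vanishes. -/
theorem eq_zero_of_sep {Q : Type*} [CommGroup Q] {Γ : Type*} [Monoid Γ] (ev : Q → (Γ →* k))
    (hev : Function.Injective ev) (h : MonoidAlgebra k Q)
    (h0 : ∀ γ : Γ, (h.coeff.sum fun q a => a * ev q γ) = 0) : h = 0 := by
  have h1 : LinearIndependent k (fun q : Q => (ev q : Γ → k)) :=
    (linearIndependent_monoidHom Γ k).comp ev hev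
  have h2 := (linearIndependent_iff.1 h1) h.coeff (by
    ext γ
    rw [Finsupp.linearCombination_apply, Finsupp.sum, Finset.sum_apply]
    exact h0 γ)
  ext q
  rw [h2]
  rfl

variable {G : Type*} [CommGroup G]

/-- The value of a regular function on the diagonalisable group with character group `G` at a character. -/
noncomputable def evl (χ : G →* kˣ) : MonoidAlgebra k G →ₐ[k] k :=
  MonoidAlgebra.lift k k G ((Units.coeHom k).comp χ)

theorem evl_single (χ : G →* kˣ) (g : G) (a : k) : evl χ (MonoidAlgebra.single g a) = a * χ g := by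
  simp [evl]

/-- The common kernel of a set of characters. -/
def ann (Γ : Subgroup (G →* kˣ)) : Subgroup G where
  carrier := {g | ∀ χ ∈ Γ, χ g = 1}
  mul_mem' {a b} ha hb χ hχ := by rw [map_mul, ha χ hχ, hb χ hχ, mul_one]
  one_mem' χ _ := map_one χ
  inv_mem' {a} ha χ hχ := by rw [map_inv, ha χ hχ, inv_one]

theorem mem_ann {Γ : Subgroup (G →* kˣ)} {g : G} : g ∈ ann Γ ↔ ∀ χ ∈ Γ, χ g = 1 := Iff.rfl

/-- The evaluation characters of a group of characters. -/
noncomputable def ev (Γ : Subgroup (G →* kˣ)) (q : G ⧸ ann Γ) : Γ →* k :=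
  (Units.coeHom k).comp
    { toFun := fun χ => QuotientGroup.lift (ann Γ) χ.1 (fun g hg => hg χ.1 χ.2) q
      map_one' := by
        induction q using QuotientGroup.induction_on with
        | H g => simp
      map_mul' := fun χ χ' => by
        induction q using QuotientGroup.induction_on with
        | H g => simp }

theorem ev_mk (Γ : Subgroup (G →* kˣ)) (g : G) (χ : Γ) :
    ev Γ (QuotientGroup.mk g) χ = χ.1 g := rfl

theorem ev_injective (Γ : Subgroup (G →* kˣ)) : Function.Injective (ev Γ) := by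
  intro q q' h
  induction q using QuotientGroup.induction_on with
  | H g =>
  induction q' using QuotientGroup.induction_on with
  | H g' =>
  rw [QuotientGroup.eq]
  intro χ hχ
  have h1 := DFunLike.congr_fun h ⟨χ, hχ⟩
  rw [ev_mk, ev_mk] at h1
  have h2 : χ g = χ g' := Units.ext h1
  rw [map_mul, map_inv, h2, inv_mul_cancel]

/-- A regular function vanishing on a group `Γ` of characters vanishes on every character trivial on the common kernel
of `Γ`. -/
theorem mapDomain_eq_zero (Γ : Subgroup (G →* kˣ)) (f : MonoidAlgebra k G) (hf : ∀ χ ∈ Γ, evl χ f = 0) :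
    MonoidAlgebra.mapDomainAlgHom k k (QuotientGroup.mk' (ann Γ)) f = 0 := by
  refine eq_zero_of_sep (ev Γ) (ev_injective Γ) _ fun χ => ?_
  rw [← hf χ.1 χ.2]
  have h1 : (MonoidAlgebra.lift k k (G ⧸ ann Γ) ((Units.coeHom k).comp
      (QuotientGroup.lift (ann Γ) χ.1 (fun g hg => hg χ.1 χ.2)))).comp
      (MonoidAlgebra.mapDomainAlgHom k k (QuotientGroup.mk' (ann Γ))) = evl χ.1 := by
    refine MonoidAlgebra.algHom_ext (fun g => ?_) (Subsingleton.elim _ _)
    simp [evl]
  rw [← h1, AlgHom.comp_apply, MonoidAlgebra.lift_apply]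
  rfl

theorem evl_eq_zero (Γ : Subgroup (G →* kˣ)) (f : MonoidAlgebra k G) (hf : ∀ χ ∈ Γ, evl χ f = 0)
    (χ : G →* kˣ) (hχ : ∀ g ∈ ann Γ, χ g = 1) : evl χ f = 0 := by
  have h1 : (MonoidAlgebra.lift k k (G ⧸ ann Γ) ((Units.coeHom k).comp
      (QuotientGroup.lift (ann Γ) χ hχ))).comp
      (MonoidAlgebra.mapDomainAlgHom k k (QuotientGroup.mk' (ann Γ))) = evl χ := by
    refine MonoidAlgebra.algHom_ext (fun g => ?_) (Subsingleton.elim _ _)
    simp [evl]
  rw [← h1, AlgHom.comp_apply, mapDomain_eq_zero Γ f hf, map_zero]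

theorem eq_zero_of_ann_eq_bot (Γ : Subgroup (G →* kˣ)) (hΓ : ann Γ = ⊥) (f : MonoidAlgebra k G)
    (hf : ∀ χ ∈ Γ, evl χ f = 0) : f = 0 := by
  have hinj : Function.Injective (QuotientGroup.mk' (ann Γ)) := by
    rw [injective_iff_map_eq_one]
    intro g hg
    have : g ∈ ann Γ := (QuotientGroup.eq_one_iff g).1 hg
    rw [hΓ] at this
    exact this
  have h1 := mapDomain_eq_zero Γ f hf
  have h2 : Function.Injective (MonoidAlgebra.mapDomain (R := k) (QuotientGroup.mk' (ann Γ))) := by
    intro a b hab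
    have := congrArg MonoidAlgebra.coeff hab
    have h3 := Finsupp.mapDomain_injective hinj this
    exact MonoidAlgebra.coeff_injective h3
  apply h2
  rw [MonoidAlgebra.mapDomain_zero]
  exact h1

section Tors

variable (k G)

/-- The torsion characters. -/
def tors : Subgroup (G →* kˣ) where
  carrier := {χ | ∃ n : ℕ, 1 ≤ n ∧ ∀ g, χ g ^ n = 1}
  mul_mem' := by
    rintro a b ⟨n, hn, ha⟩ ⟨m, hm, hb⟩
    refine ⟨n * m, Nat.one_le_iff_ne_zero.2 (by positivity), fun g => ?_⟩
    rw [MonoidHom.mul_apply, mul_pow, pow_mul, ha, one_pow, mul_comm n m, pow_mul, hb, one_pow, mul_one]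
  one_mem' := ⟨1, le_rfl, fun g => by simp⟩
  inv_mem' := by
    rintro a ⟨n, hn, ha⟩
    exact ⟨n, hn, fun g => by rw [MonoidHom.inv_apply, inv_pow, ha, inv_one]⟩

variable {k G}

theorem mem_tors {χ : G →* kˣ} : χ ∈ tors k G ↔ ∃ n : ℕ, 1 ≤ n ∧ ∀ g, χ g ^ n = 1 := Iff.rfl

variable [IsAlgClosed k] [CharZero k]

/-- Torsion characters separate an element from the identity through a finite quotient. -/
theorem exists_of_finite {H : Type*} [CommGroup H] [Finite H] (q : G →* H) (g : G) (hg : q g ≠ 1) :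
    ∃ χ ∈ tors k G, (∀ g' : G, q g' = 1 → χ g' = 1) ∧ χ g ≠ 1 := by
  have : NeZero (Monoid.exponent H) := ⟨Monoid.exponent_ne_zero_of_finite⟩
  have : NeZero ((Monoid.exponent H : ℕ) : k) := ⟨Nat.cast_ne_zero.2 Monoid.exponent_ne_zero_of_finite⟩
  obtain ⟨φ, hφ⟩ := CommGroup.exists_apply_ne_one_of_hasEnoughRootsOfUnity H k hg
  refine ⟨φ.comp q, ⟨Monoid.exponent H, Nat.one_le_iff_ne_zero.2 Monoid.exponent_ne_zero_of_finite, ?_⟩, ?_, hφ⟩
  · intro g'
    rw [MonoidHom.comp_apply, ← map_pow, Monoid.pow_exponent_eq_one, map_one]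
  · intro g' hg'
    simp [hg']

/-- A proper subgroup of a finitely generated commutative group is killed by a nontrivial torsion character. -/
theorem exists_of_ne_top [Group.FG G] (N : Subgroup G) (hN : N ≠ ⊤) :
    ∃ χ ∈ tors k G, (∀ g ∈ N, χ g = 1) ∧ ∃ g, χ g ≠ 1 := by
  have hfg : AddGroup.FG (Additive G) := inferInstance
  have hfin : Module.Finite ℤ (Additive G) := Module.Finite.iff_addGroup_fg.2 hfg
  let N' : Submodule ℤ (Additive G) := AddSubgroup.toIntSubmodule (Subgroup.toAddSubgroup N)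
  have hN' : N' ≠ ⊤ := by
    intro h
    apply hN
    rw [eq_top_iff]
    intro g _
    have : Additive.ofMul g ∈ N' := h ▸ Submodule.mem_top
    exact this
  obtain ⟨P, hP, hle⟩ := (eq_top_or_exists_le_coatom N').resolve_left hN'
  have h1 : IsSimpleModule ℤ (Additive G ⧸ P) := isSimpleModule_iff_isCoatom.2 hP
  obtain ⟨I, hI, ⟨e⟩⟩ := isSimpleModule_iff_quot_maximal.1 h1
  have hI0 : I ≠ ⊥ := by
    rintro rfl
    exact Int.not_isField (Ring.isField_iff_maximal_bot.2 hI)
  have : Finite (ℤ ⧸ I) := I.finiteQuotientOfFreeOfNeBot hI0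
  have : Finite (Additive G ⧸ P) := Finite.of_equiv _ e.symm.toEquiv
  have : Finite (Multiplicative (Additive G ⧸ P)) := this
  let q : G →* Multiplicative (Additive G ⧸ P) := AddMonoidHom.toMultiplicativeRight P.mkQ.toAddMonoidHom
  obtain ⟨g, hg⟩ : ∃ g : Additive G, g ∉ P := by
    by_contra h
    push Not at h
    exact hP.1 (eq_top_iff.2 fun g _ => h g)
  obtain ⟨χ, hχ, h2, h3⟩ := exists_of_finite (k := k) q g.toMul (by
    intro h
    exact hg ((Submodule.Quotient.mk_eq_zero P).1 h))
  refine ⟨χ, hχ, fun g' hg' => h2 g' ?_, _, h3⟩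
  exact (Submodule.Quotient.mk_eq_zero P).2 (hle hg')

/-- Torsion characters of a finitely generated free commutative group separate its elements. -/
theorem ann_tors_free (r : ℕ) : ann (tors k (Multiplicative (Fin r → ℤ))) = ⊥ := by
  rw [eq_bot_iff]
  intro g hg
  by_contra hne
  obtain ⟨i, hi⟩ : ∃ i, g.toAdd i ≠ 0 := by
    by_contra hall
    push Not at hall
    exact hne (by
      change g = 1
      exact Multiplicative.toAdd.injective (funext hall))
  let n : ℕ := (g.toAdd i).natAbs + 1
  have : NeZero n := ⟨Nat.succ_ne_zero _⟩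
  let q : Multiplicative (Fin r → ℤ) →* Multiplicative (ZMod n) :=
    AddMonoidHom.toMultiplicative ((Int.castAddHom (ZMod n)).comp (Pi.evalAddMonoidHom _ i))
  have hq : q g ≠ 1 := by
    intro h
    have h1 : ((g.toAdd i : ℤ) : ZMod n) = 0 := congrArg Multiplicative.toAdd h
    rw [ZMod.intCast_zmod_eq_zero_iff_dvd] at h1
    have := Int.natAbs_dvd_natAbs.2 h1
    rw [Int.natAbs_natCast] at this
    have := Nat.le_of_dvd (Int.natAbs_pos.2 hi) this
    omega
  obtain ⟨χ, hχ, -, hne'⟩ := exists_of_finite (k := k) q g hq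
  exact hne' (hg χ hχ)

end Tors

end K982.Chars
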