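import Groth.Prelude.Def_OneMot
import Groth.Agent.Sga3B.DSPts
import Groth.Agent.OneMot.K982.Pts

/-!
# Lattices over an algebraically closed field
-/

set_option autoImplicit false
universe u v

open CategoryTheory CategoryTheory.Limits MonoidalCategory CartesianMonoidalCategory MonObj GrpObj AlgebraicGeometry

namespace K982.Lat

open K982.APts

/-- Property of a base change descends to the object along a section. -/
theorem prop_of_section {S S' : Scheme.{u}} (f : S' ⟶ S) (σ : S ⟶ S') (hσ : σ ≫ f = 𝟙 S) (L : Over S)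
    (Q : MorphismProperty Scheme.{u}) [Q.IsStableUnderBaseChange] (h : Q (Red.bc f L).hom) : Q L.hom := by
  have h1 : IsPullback (𝟙 L.left) L.hom L.hom (σ ≫ f) := by
    rw [hσ]
    exact IsPullback.of_horiz_isIso ⟨by simp⟩
  have h2 : IsPullback (pullback.fst L.hom f) (pullback.snd L.hom f) L.hom f := IsPullback.of_hasPullback _ _
  have h3 : IsPullback (pullback.lift (𝟙 L.left) (L.hom ≫ σ) (by simp [hσ])) L.hom (pullback.snd L.hom f) σ := by
    refine IsPullback.of_right ?_ (pullback.lift_snd _ _ _) h2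
    rw [pullback.lift_fst]
    exact h1
  exact Q.of_isPullback h3 h

theorem etale_const (S : Scheme.{u}) (I : Type v) [Small.{u} I] : Etale (TwC.const S I).hom := by
  change Etale (Sigma.desc fun _ : I => 𝟙 S)
  exact IsZariskiLocalAtSource.sigmaDesc (P := @Etale) fun i => inferInstance

variable {k : Type u} [Field k] [IsAlgClosed k]

omit [IsAlgClosed k] in
/-- A point of a constant scheme over a spectrum of a field is one of the standard points. -/
theorem exists_pt {S' : Scheme.{u}} (σ : Spec (CommRingCat.of k) ⟶ S') (I : Type v) [Small.{u} I]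
    (x : Over.mk σ ⟶ TwC.const S' I) : ∃ i : I, x = toUnit _ ≫ TwC.pt S' I i := by
  obtain ⟨i, y, hy⟩ : ∃ (i : I) (y : S'), Sigma.ι (fun _ : I => S') i y = x.left (IsLocalRing.closedPoint k) :=
    (sigmaOpenCover (fun _ : I => S')).exists_eq (x.left (IsLocalRing.closedPoint k))
  have h1 : Set.range x.left ⊆ Set.range (Sigma.ι (fun _ : I => S') i) := by
    rintro _ ⟨z, rfl⟩
    have : z = IsLocalRing.closedPoint k := Subsingleton.elim (α := ↥(Spec (CommRingCat.of k))) _ _
    rw [this]
    exact ⟨y, hy⟩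
  have h2 := IsOpenImmersion.lift_fac (Sigma.ι (fun _ : I => S') i) x.left h1
  have h3 : IsOpenImmersion.lift (Sigma.ι (fun _ : I => S') i) x.left h1 = σ := by
    have h4 : x.left ≫ (Sigma.desc fun _ : I => 𝟙 S') = σ := Over.w x
    have h5 : Sigma.ι (fun _ : I => S') i ≫ (Sigma.desc fun _ : I => 𝟙 S') = 𝟙 S' := by simp
    have h6 := congrArg (· ≫ (Sigma.desc fun _ : I => 𝟙 S')) h2
    simp only [Category.assoc] at h6
    rw [h5, Category.comp_id] at h6
    exact h6.trans h4
  refine ⟨i, ?_⟩
  ext1
  exact h2.symm.trans (congrArg (· ≫ Sigma.ι (fun _ : I => S') i) h3)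

omit [IsAlgClosed k] in
/-- The standard points are distinct. -/
theorem pt_injective {S' : Scheme.{u}} (σ : Spec (CommRingCat.of k) ⟶ S') (I : Type v) [Small.{u} I] {i j : I}
    (h : (toUnit (Over.mk σ) ≫ TwC.pt S' I i) = toUnit _ ≫ TwC.pt S' I j) : i = j := by
  have h1 : σ ≫ Sigma.ι (fun _ : I => S') i = σ ≫ Sigma.ι (fun _ : I => S') j := congrArg CommaMorphism.left h
  have h2 := congrArg (fun m => m (IsLocalRing.closedPoint k)) h1
  simp only [Scheme.Hom.comp_apply] at h2
  have h3 := (sigmaι_eq_iff _ _ _ _ _).1 h2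
  exact congrArg Sigma.fst h3

/-- The rational points of a lattice form a free group of finite rank, and a lattice is étale. -/
theorem main {L : Over (Spec (CommRingCat.of k))} [GrpObj L] (hL : OneMot.IsLattice L) :
    Etale L.hom ∧ ∃ r : ℕ, Nonempty (Multiplicative (Fin r → ℤ) ≃* (P k ⟶ L)) := by
  obtain ⟨S', f, hf, ⟨s', -⟩, r, e, he⟩ := hL (IsLocalRing.closedPoint k)
  have hne : Nonempty S' := ⟨s'⟩
  have hlft : LocallyOfFiniteType f := inferInstance
  obtain ⟨σ, hσ⟩ := exists_section f
  refine ⟨prop_of_section f σ hσ L @Etale ?_, r, ?_⟩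
  · rw [← Over.w e.hom]
    have := etale_const S' (Multiplicative (Fin r → ℤ))
    infer_instance
  · let φ : Multiplicative (Fin r → ℤ) →ₙ* (Over.mk σ ⟶ Red.bc f L) :=
      { toFun := fun m => toUnit _ ≫ TwC.pt S' _ m ≫ e.inv
        map_mul' := fun m n => by rw [← he m n, MonObj.comp_mul] }
    have hφ : Function.Bijective φ := by
      constructor
      · intro m n h
        change toUnit _ ≫ TwC.pt S' _ m ≫ e.inv = toUnit _ ≫ TwC.pt S' _ n ≫ e.inv at h
        rw [← Category.assoc, ← Category.assoc, cancel_mono] at h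
        exact pt_injective σ _ h
      · intro x
        obtain ⟨i, hi⟩ := exists_pt σ _ (x ≫ e.hom)
        refine ⟨i, ?_⟩
        change toUnit _ ≫ TwC.pt S' _ i ≫ e.inv = x
        rw [← Category.assoc, ← hi, Category.assoc, e.hom_inv_id, Category.comp_id]
    have e1 : (Over.map f).obj (Over.mk σ) ≅ P k := Over.isoMk (Iso.refl _) (by simpa using hσ.symm)
    exact ⟨(MulEquiv.ofBijective φ hφ).trans ((Groth.Agent.Sga3B.DSPts.bcEquiv f (Over.mk σ) L).symm.trans
      { toFun := fun x => e1.inv ≫ x
        invFun := fun x => e1.hom ≫ x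
        left_inv := fun x => by simp
        right_inv := fun x => by simp
        map_mul' := fun x y => MonObj.comp_mul _ _ _ })⟩

end K982.Lat
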