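import Groth.Agent.OneMot.K982.Ab
import Groth.Agent.OneMot.K982.Lat
import Groth.Agent.Sga3.H830.AlgGrpAb


/-!
# Torsion realizations of 1-motives over an algebraically closed field of characteristic zero
-/

set_option autoImplicit false
universe u

open CategoryTheory CategoryTheory.Limits MonoidalCategory CartesianMonoidalCategory MonObj GrpObj AlgebraicGeometry

namespace K982.Real

open K982.APts

section Lattice

variable {A : Type*} [CommGroup A]

theorem torsion_free {r : ℕ} (e : Multiplicative (Fin r → ℤ) ≃* A) (m : ℕ) (hm : 1 ≤ m) (z : A) (hz : z ^ m = 1) :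
    z = 1 := by
  obtain ⟨w, rfl⟩ := e.surjective z
  rw [← map_pow, ← map_one e, e.injective.eq_iff] at hz
  have h1 : ∀ i, (m : ℤ) * w.toAdd i = 0 := by
    intro i
    have := congrFun (congrArg Multiplicative.toAdd hz) i
    simpa using this
  have h2 : w = 1 := by
    apply Multiplicative.toAdd.injective
    ext i
    have h3 := h1 i
    have hm0 : (m : ℤ) ≠ 0 := by exact_mod_cast (by omega : m ≠ 0)
    exact (mul_eq_zero.1 h3).resolve_left hm0
  rw [h2, map_one]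

theorem eq_one_of_divisible {r : ℕ} (e : Multiplicative (Fin r → ℤ) ≃* A) (x : A)
    (h : ∀ m : ℕ, 1 ≤ m → ∃ z : A, z ^ m = x) : x = 1 := by
  obtain ⟨w, rfl⟩ := e.surjective x
  have h2 : w = 1 := by
    apply Multiplicative.toAdd.injective
    ext i
    obtain ⟨z, hz⟩ := h ((w.toAdd i).natAbs + 1) (by omega)
    obtain ⟨v, rfl⟩ := e.surjective z
    rw [← map_pow, e.injective.eq_iff] at hz
    have h3 : (((w.toAdd i).natAbs + 1 : ℕ) : ℤ) * v.toAdd i = w.toAdd i := by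
      have := congrFun (congrArg Multiplicative.toAdd hz) i
      simpa using this
    have h4 : (((w.toAdd i).natAbs + 1 : ℕ) : ℤ) ∣ w.toAdd i := ⟨_, h3.symm⟩
    have h5 := Int.eq_zero_of_abs_lt_dvd h4 (by
      rw [Int.abs_eq_natAbs]
      push_cast
      omega)
    simpa using h5
  rw [h2, map_one]

/-- A homomorphism of finitely generated commutative groups which is surjective modulo all `m` is surjective. -/
theorem surjective_of_mod {k : Type*} [Field k] [IsAlgClosed k] [CharZero k] {r : ℕ}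
    {B : Type*} [CommGroup B] (e : Multiplicative (Fin r → ℤ) ≃* B) (φ : A →* B)
    (h : ∀ m : ℕ, 1 ≤ m → ∀ y : B, ∃ (x : A) (w : B), y = φ x * w ^ m) : Function.Surjective φ := by
  have hfg : Group.FG B := Group.fg_of_surjective (f := e.toMonoidHom) e.surjective
  rw [← MonoidHom.range_eq_top]
  by_contra hne
  obtain ⟨χ, ⟨n, hn, h0⟩, h1, g, hg⟩ := Chars.exists_of_ne_top (k := k) φ.range hne
  obtain ⟨x, w, hw⟩ := h n hn g
  apply hg
  rw [hw, map_mul, map_pow, h0 w, h1 _ ⟨x, rfl⟩, _root_.mul_one]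

end Lattice

variable {k : Type u} [Field k] [IsAlgClosed k] {M N : OneMot.Motive (Spec (CommRingCat.of k))}

/-- The class of a pair of points. -/
noncomputable def cls (m : ℕ) (x : P k ⟶ M.L) (y : P k ⟶ M.G) (h : x ≫ M.u = (y ^ m)⁻¹) :
    OneMot.TZMod M m (P k) :=
  QuotientAddGroup.mk ⟨(Additive.ofMul x, Additive.ofMul y), congrArg Additive.ofMul h⟩

theorem exists_cls (m : ℕ) (c : OneMot.TZMod M m (P k)) :
    ∃ (x : P k ⟶ M.L) (y : P k ⟶ M.G) (h : x ≫ M.u = (y ^ m)⁻¹), c = cls m x y h := by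
  induction c using QuotientAddGroup.induction_on with
  | H p =>
    obtain ⟨⟨x, y⟩, h⟩ := p
    exact ⟨x.toMul, y.toMul, congrArg Additive.toMul h, rfl⟩

theorem comp_comm (f : OneMot.Motive.Hom M N) (m : ℕ) (x : P k ⟶ M.L) (y : P k ⟶ M.G) (h : x ≫ M.u = (y ^ m)⁻¹) :
    (x ≫ f.fL) ≫ N.u = ((y ≫ f.fG) ^ m)⁻¹ := by
  rw [Category.assoc, ← f.comm, ← Category.assoc, h, GrpObj.inv_comp, MonObj.pow_comp]

theorem tzMap_cls (f : OneMot.Motive.Hom M N) (m : ℕ) (x : P k ⟶ M.L) (y : P k ⟶ M.G) (h : x ≫ M.u = (y ^ m)⁻¹) :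
    OneMot.tzMap m (P k) f (cls m x y h) = cls m (x ≫ f.fL) (y ≫ f.fG) (comp_comm f m x y h) := rfl

theorem cls_eq_iff (m : ℕ) (x x' : P k ⟶ M.L) (y y' : P k ⟶ M.G) (h : x ≫ M.u = (y ^ m)⁻¹)
    (h' : x' ≫ M.u = (y' ^ m)⁻¹) :
    cls m x y h = cls m x' y' h' ↔ ∃ z : P k ⟶ M.L, x * z ^ m = x' ∧ y * (z ≫ M.u)⁻¹ = y' := by
  rw [cls, cls, QuotientAddGroup.eq]
  constructor
  · rintro ⟨z, hz⟩
    have h1 : z.toMul ^ m = x⁻¹ * x' := congrArg (fun p => Additive.toMul (Prod.fst p)) hz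
    have h2 : (z.toMul ≫ M.u)⁻¹ = y⁻¹ * y' := congrArg (fun p => Additive.toMul (Prod.snd p)) hz
    exact ⟨z.toMul, by rw [h1, mul_inv_cancel_left], by rw [h2, mul_inv_cancel_left]⟩
  · rintro ⟨z, rfl, rfl⟩
    refine ⟨Additive.ofMul z, ?_⟩
    apply Prod.ext
    · change Additive.ofMul (z ^ m) = Additive.ofMul (x⁻¹ * (x * z ^ m))
      rw [inv_mul_cancel_left]
    · change Additive.ofMul ((z ≫ M.u)⁻¹) = Additive.ofMul (y⁻¹ * (y * (z ≫ M.u)⁻¹))
      rw [inv_mul_cancel_left]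

theorem unit_pair (m : ℕ) (t : P k ⟶ M.G) (ht : t ^ m = 1) : (1 : P k ⟶ M.L) ≫ M.u = (t ^ m)⁻¹ := by
  rw [ht, inv_one, MonObj.one_comp]

/-- Faithfulness. -/
theorem faithful [CharZero k] (f g : OneMot.Motive.Hom M N)
    (h : ∀ m : ℕ, 1 ≤ m → OneMot.tzMap m (P k) f = OneMot.tzMap m (P k) g) : f = g := by
  obtain ⟨het, -⟩ := Lat.main M.lattice
  obtain ⟨hetN, r, ⟨e⟩⟩ := Lat.main N.lattice
  apply OneMot.Motive.Hom.ext'
  · have hred : IsReduced M.L.left := Groth.Agent.Flat2B.SmoothGeom.isReduced_of_smooth M.L.hom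
    refine ext_of_points _ _ fun x => ?_
    rw [← inv_mul_eq_one]
    refine eq_one_of_divisible e _ fun m hm => ?_
    obtain ⟨y, hy⟩ := Ab.exists_pow M.semiAb m hm ((x ≫ M.u)⁻¹)
    have hxy : x ≫ M.u = (y ^ m)⁻¹ := by rw [hy, _root_.inv_inv]
    have h1 := DFunLike.congr_fun (h m hm) (cls m x y hxy)
    rw [tzMap_cls, tzMap_cls, cls_eq_iff] at h1
    obtain ⟨z, hz, -⟩ := h1
    exact ⟨z, by rw [← hz, inv_mul_cancel_left]⟩
  · refine Ab.ext_of_torsion M.semiAb _ _ fun m hm t ht => ?_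
    have h1 := DFunLike.congr_fun (h m hm) (cls m 1 t (unit_pair m t ht))
    rw [tzMap_cls, tzMap_cls, cls_eq_iff] at h1
    obtain ⟨z, hz, hz'⟩ := h1
    rw [MonObj.one_comp, MonObj.one_comp, _root_.one_mul] at hz
    rw [torsion_free e m hm z hz, MonObj.one_comp, inv_one, _root_.mul_one] at hz'
    exact hz'

/-- Conservativity. -/
theorem conservative [CharZero k] (f : OneMot.Motive.Hom M N)
    (h : ∀ m : ℕ, 1 ≤ m → Function.Bijective (OneMot.tzMap m (P k) f)) : f.IsIso := by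
  obtain ⟨hetM, rM, ⟨eM⟩⟩ := Lat.main M.lattice
  obtain ⟨hetN, rN, ⟨eN⟩⟩ := Lat.main N.lattice
  -- the map on semi-abelian parts is a monomorphism
  have hGmono : Mono f.fG := by
    refine Ab.mono_of_torsion M.semiAb f.fG fun m hm x hx hxf => ?_
    have h1 : cls m 1 x (unit_pair m x hx) = cls m 1 1 (unit_pair m 1 (one_pow m)) := by
      apply (h m hm).1
      rw [tzMap_cls, tzMap_cls, cls_eq_iff]
      exact ⟨1, by rw [one_pow, _root_.mul_one], by
        rw [MonObj.one_comp, inv_one, _root_.mul_one, hxf, MonObj.one_comp]⟩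
    rw [cls_eq_iff] at h1
    obtain ⟨z, hz, hz'⟩ := h1
    rw [_root_.one_mul] at hz
    rw [torsion_free eM m hm z hz, MonObj.one_comp, inv_one, _root_.mul_one] at hz'
    exact hz'
  -- the map on lattices is injective on points
  have hLinj : ∀ x : P k ⟶ M.L, x ≫ f.fL = 1 → x = 1 := by
    intro x hx
    have hxu : x ≫ M.u = 1 := by
      rw [← cancel_mono f.fG, Category.assoc, f.comm, ← Category.assoc, hx, MonObj.one_comp, MonObj.one_comp]
    refine eq_one_of_divisible eM x fun m hm => ?_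
    have h0 : x ≫ M.u = ((1 : P k ⟶ M.G) ^ m)⁻¹ := by rw [hxu, one_pow, inv_one]
    have h1 : cls m x 1 h0 = cls m 1 1 (unit_pair m 1 (one_pow m)) := by
      apply (h m hm).1
      rw [tzMap_cls, tzMap_cls, cls_eq_iff]
      exact ⟨1, by rw [one_pow, _root_.mul_one, hx, MonObj.one_comp], by
        rw [MonObj.one_comp, MonObj.one_comp, inv_one, _root_.mul_one]⟩
    rw [cls_eq_iff] at h1
    obtain ⟨z, hz, -⟩ := h1
    exact ⟨z⁻¹, by rw [inv_pow]; exact inv_eq_of_mul_eq_one_left hz⟩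
  -- and surjective
  have hLsurj : ∀ y : P k ⟶ N.L, ∃ x : P k ⟶ M.L, x ≫ f.fL = y := by
    let φ : (P k ⟶ M.L) →* (P k ⟶ N.L) :=
      { toFun := fun x => x ≫ f.fL
        map_one' := MonObj.one_comp _
        map_mul' := fun x y => MonObj.mul_comp x y _ }
    refine surjective_of_mod (k := k) eN φ fun m hm y => ?_
    obtain ⟨w, hw⟩ := Ab.exists_pow N.semiAb m hm ((y ≫ N.u)⁻¹)
    have hyw : y ≫ N.u = (w ^ m)⁻¹ := by rw [hw, _root_.inv_inv]
    obtain ⟨c, hc⟩ := (h m hm).2 (cls m y w hyw)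
    obtain ⟨x, g, hxg, rfl⟩ := exists_cls m c
    rw [tzMap_cls, cls_eq_iff] at hc
    obtain ⟨z, hz, -⟩ := hc
    exact ⟨x, z, hz.symm⟩
  have hLred : IsReduced M.L.left := Groth.Agent.Flat2B.SmoothGeom.isReduced_of_smooth M.L.hom
  have hLmono : Mono f.fL := mono_of_points f.fL hLinj
  have hLlft : LocallyOfFiniteType M.L.hom := inferInstance
  have hNlft : LocallyOfFiniteType N.L.hom := inferInstance
  constructor
  · have h1 : Etale (f.fL.left ≫ N.L.hom) := by
      rw [Over.w]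
      exact hetM
    have h2 : Etale f.fL.left := Etale.of_comp f.fL.left N.L.hom
    have h3 : Mono f.fL.left := inferInstance
    have h4 : IsOpenImmersion f.fL.left := IsOpenImmersion.of_flat_of_mono f.fL.left
    have h5 : Surjective f.fL.left := by
      refine ⟨fun z => ?_⟩
      by_contra hz
      have hz' : z ∈ (Set.range f.fL.left)ᶜ := hz
      obtain ⟨y, hy⟩ := exists_point_mem (X := N.L) (Set.range f.fL.left)ᶜ
        (f.fL.left.isOpenEmbedding.isOpen_range.isClosed_compl.isLocallyClosed) ⟨z, hz'⟩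
      obtain ⟨x, rfl⟩ := hLsurj y
      exact hy (Classical.arbitrary _) ⟨x.left (Classical.arbitrary _), rfl⟩
    have h6 : IsIso f.fL.left := (isIso_iff_isOpenImmersion_and_epi_base f.fL.left).2
      ⟨h4, (TopCat.epi_iff_surjective _).2 h5.surj⟩
    exact (isIso_iff_of_reflects_iso f.fL (Over.forget _)).1 h6
  · -- torsion points of `N.G` come from `M.G`
    have htor : ∀ m : ℕ, 1 ≤ m → ∀ t : P k ⟶ N.G, t ^ m = 1 → ∃ s : P k ⟶ M.G, s ≫ f.fG = t := by
      intro m hm t ht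
      obtain ⟨c, hc⟩ := (h m hm).2 (cls m 1 t (unit_pair m t ht))
      obtain ⟨x, g, hxg, rfl⟩ := exists_cls m c
      rw [tzMap_cls, cls_eq_iff] at hc
      obtain ⟨z, -, hz⟩ := hc
      obtain ⟨z', rfl⟩ := hLsurj z
      refine ⟨g * (z' ≫ M.u)⁻¹, ?_⟩
      rw [← hz, MonObj.mul_comp, GrpObj.inv_comp, Category.assoc, Category.assoc, f.comm]
    have hM : Groth.Agent.Sga3.H830.AlgGrpAb.IsAlg M.G :=
      ⟨Ab.locallyOfFiniteType M.semiAb, Ab.quasiCompact M.semiAb⟩
    have hN : Groth.Agent.Sga3.H830.AlgGrpAb.IsAlg N.G :=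
      ⟨Ab.locallyOfFiniteType N.semiAb, Ab.quasiCompact N.semiAb⟩
    obtain ⟨Q, gQ, p, hp, -, hk, -⟩ := Groth.Agent.Sga3.H830.AlgGrpAb.exists_quotient hM hN f.fG
    have hw : f.fG ≫ p = 1 := by
      have := hk.w
      exact this.trans rfl
    have hp1 : p = 1 := by
      refine Ab.eq_one_of_torsion N.semiAb p fun m hm t ht => ?_
      obtain ⟨s, rfl⟩ := htor m hm t ht
      rw [Category.assoc, hw, MonObj.comp_one]
    have h1 : 𝟙 N.G ≫ p = toUnit N.G ≫ η[Q] := by
      rw [Category.id_comp, hp1]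
      rfl
    have h2 : hk.lift (𝟙 N.G) (toUnit N.G) h1 ≫ f.fG = 𝟙 N.G := hk.lift_fst _ _ _
    refine ⟨hk.lift (𝟙 N.G) (toUnit N.G) h1, ?_, h2⟩
    rw [← cancel_mono f.fG, Category.assoc, h2, Category.comp_id, Category.id_comp]

end K982.Real
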