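import Groth.Prelude.Def_OneMot
import Groth.Agent.CGrpSh.K731.Basic
import Groth.Agent.ChGrp.K982.Descent

/-!
# Extensions of commutative group schemes as sheaves of points: consequences on points
-/

set_option autoImplicit false
universe u

open CategoryTheory CategoryTheory.Limits MonoidalCategory CartesianMonoidalCategory MonObj GrpObj AlgebraicGeometry Opposite

namespace K982.Semi

open K982.Pts K982.Act

variable {S : Scheme.{u}} {T G A : Over S} [GrpObj T] [IsCommMonObj T] [GrpObj G] [IsCommMonObj G]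
  [GrpObj A] [IsCommMonObj A] {incl : T ⟶ G} {proj : G ⟶ A} [IsMonHom incl] [IsMonHom proj]

section Seq

variable {w : incl ≫ proj = 1} (h : (CGrpSh.seq Scheme.fppfPrecoverage incl proj w).ShortExact)

include h

theorem incl_inj {X : Over S} {s t : X ⟶ T} (e : s ≫ incl = t ≫ incl) : s = t := by
  have := h.mono_f
  have h1 := K731.Basic.injective_of_mono (CGrpSh.seq Scheme.fppfPrecoverage incl proj w).f (op X)
    (a₁ := ULift.up (Additive.ofMul s)) (a₂ := ULift.up (Additive.ofMul t))
    (congrArg (fun z => ULift.up (Additive.ofMul z)) e)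
  exact congrArg (fun z : ULift.{u + 1} (Additive (X ⟶ T)) => z.down.toMul) h1

theorem exists_of_proj_eq_one {X : Over S} (x : X ⟶ G) (hx : x ≫ proj = 1) : ∃ t : X ⟶ T, t ≫ incl = x := by
  have := h.mono_f
  obtain ⟨a, ha⟩ := K731.Basic.exists_of_exact_of_mono (CGrpSh.seq Scheme.fppfPrecoverage incl proj w) h.exact
    (T := op X) (ULift.up (Additive.ofMul x)) (by
      apply ULift.ext
      change Additive.ofMul (x ≫ proj) = 0
      rw [hx]
      rfl)
  exact ⟨a.down.toMul, congrArg (fun z : ULift.{u + 1} (Additive (X ⟶ G)) => z.down.toMul) ha⟩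

theorem isLocallyTrivialFor_proj :
    NonAbH1.IsLocallyTrivialFor Scheme.fppfPrecoverage (Over.mk proj.left : Over A.left) := by
  have := h.epi_g
  obtain ⟨P, hP, h2⟩ := K731.Basic.exists_cover_of_epi (CGrpSh.seq Scheme.fppfPrecoverage incl proj w).g A
    (ULift.up (Additive.ofMul (𝟙 A)))
  refine ⟨P, hP, ?_⟩
  intro Y f hf
  obtain ⟨a, ha⟩ := h2 f hf
  have h3 : a.down.toMul ≫ proj = Over.homMk f ≫ 𝟙 A :=
    congrArg (fun z : ULift.{u + 1} (Additive (Over.mk (f ≫ A.hom) ⟶ A)) => z.down.toMul) ha
  refine ⟨a.down.toMul.left, ?_⟩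
  have h4 := congrArg (fun z => CommaMorphism.left z) h3
  simpa using h4


/-- `G ×_A G = G × T`, through `(g, t) ↦ (g t, g)`. -/
theorem isPullback_proj : IsPullback (fst G T * (snd G T ≫ incl)) (fst G T) proj proj := by
  refine isPullback_of_points ?_ ?_ ?_
  · rw [MonObj.mul_comp, Category.assoc, w, MonObj.comp_one, _root_.mul_one]
  · intro X x y hxy
    obtain ⟨t, ht⟩ := exists_of_proj_eq_one h (y⁻¹ * x) (by
      rw [MonObj.mul_comp, GrpObj.inv_comp, hxy, inv_mul_cancel])
    refine ⟨lift y t, ?_, lift_fst _ _⟩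
    rw [MonObj.comp_mul, lift_fst, lift_snd_assoc, ht, mul_inv_cancel_left]
  · intro X p p' e1 e2
    obtain ⟨g, t, rfl⟩ := exists_eq_lift p
    obtain ⟨g', t', rfl⟩ := exists_eq_lift p'
    rw [lift_fst, lift_fst] at e2
    subst e2
    rw [MonObj.comp_mul, lift_fst, lift_snd_assoc, MonObj.comp_mul, lift_fst, lift_snd_assoc] at e1
    rw [incl_inj h (mul_left_cancel e1)]

/-- The projection of an extension inherits the fppf-local properties of the structure morphism of the kernel. -/
theorem property_proj (P : MorphismProperty Scheme.{u}) [P.IsStableUnderBaseChange]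
    [P.DescendsAlong (@Surjective ⊓ @Flat ⊓ @LocallyOfFinitePresentation)] (hP : P T.hom) : P proj.left :=
  K982.Descent.property_descend P (isLocallyTrivialFor_proj h) (isPullback_proj h)
    (P.pullback_fst _ _ hP)

theorem surjective_proj : Surjective proj.left :=
  K982.Descent.surjective_of_isLocallyTrivial (isLocallyTrivialFor_proj h)

/-- Homomorphisms which are trivial on the kernel factor through the quotient. -/
theorem exists_desc {N : Over S} (f : G ⟶ N) (hf : ∀ (X : Over S) (g : X ⟶ G) (t : X ⟶ T), (g * (t ≫ incl)) ≫ f = g ≫ f) :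
    ∃ f' : A ⟶ N, proj ≫ f' = f := by
  obtain ⟨f', hf', -⟩ := existsUnique_descend (K := Scheme.fppfPrecoverage) Scheme.fppfPrecoverage_le_fpqcPrecoverage
    (isLocallyTrivialFor_proj h) f (by
      intro X x y hxy
      obtain ⟨t, ht⟩ := exists_of_proj_eq_one h (x⁻¹ * y) (by
        rw [MonObj.mul_comp, GrpObj.inv_comp, hxy, inv_mul_cancel])
      rw [← hf X x t, ht, mul_inv_cancel_left])
  exact ⟨f', hf'⟩

end Seq

end K982.Semi
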